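import Cfsg.Agent.H145.BR.Defs
import Cfsg.Agent.H775.S4790.Quot
import Cfsg.Agent.H608.BlockRank
import Cfsg.Agent.Blocks.ExtendedFMT
import Cfsg.Agent.Blocks.PRegular
import Cfsg.Agent.Blocks.PrincipalSection
import Cfsg.Agent.Characters.GaloisIrr
import Cfsg.Agent.H657.PRational
import Cfsg.Agent.S0919
import Cfsg.Agent.S0936
import Cfsg.Agent.S4652
import Cfsg.Agent.S4695
import Cfsg.Agent.S4696

/-!
# S4891 (TEAM B0-RAT), the row of the simple groups with cyclic Sylow `p`-subgroups (helper734)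

* `block`   : S4695 and S4696 for the principal block of a group with a cyclic Sylow subgroup;
* `Canon`   : `χ` is determined in the principal block by its values on the `p`-regular elements;
* `exists_canon`, `card_canon_lt` : there are `e ≥ 2` such characters, and less than `p` nontrivial ones;
* `rowT_cyc` : the row.
-/

set_option autoImplicit false

namespace Cfsg.Agent.H734.RB

open Subgroup Cfsg Cfsg.Agent.Characters.Core Cfsg.Agent.H145.BR

universe u

variable {G : Type u} [Group G] [Finite G] {p : ℕ} [hp : Fact p.Prime] {M : Ideal AlgInt}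

/-- The principal block in the situation of S4695 and S4696. -/
theorem block (hM : IsPModular p M) (P : Sylow p G) (hcyc : IsCyclic (P : Subgroup G)) {a : ℕ} (ha : 1 ≤ a)
    (hPa : Nat.card (P : Subgroup G) = p ^ a) {e : ℕ}
    (he : (centralizer ((P : Subgroup G) : Set G)).relIndex (normalizer ((P : Subgroup G) : Set G)) = e) :
    e ∣ p - 1 ∧ blockRank p (principalBlock M G) = e ∧
      (∀ χ ∈ principalBlock M G, blockHeight p (principalBlock M G) (χ : G → ℂ) = 0) ∧
      ∃ X Y : Set (IrrCharacter G), principalBlock M G = X ∪ Y ∧ Disjoint X Y ∧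
      Nat.card X = e ∧ Nat.card Y = (p ^ a - 1) / e ∧
      (∀ ψ ∈ Y, ∀ ψ' ∈ Y, ∀ g : G, ¬ p ∣ orderOf g → (ψ : G → ℂ) g = (ψ' : G → ℂ) g) ∧
      ∃ (δ : IrrCharacter G → ℤ) (δ₀ : ℤ), (∀ χ ∈ X, δ χ = 1 ∨ δ χ = -1) ∧ (δ₀ = 1 ∨ δ₀ = -1) ∧
      (∀ ψ ∈ Y, ∀ g : G, ¬ p ∣ orderOf g → (δ₀ : ℂ) * (ψ : G → ℂ) g + ∑ᶠ χ ∈ X, (δ χ : ℂ) * (χ : G → ℂ) g = 0) := by
  classical
  have := Fintype.ofFinite G
  have hMp := Blocks.Local.isPrime_of_isPModular hM
  have hcomm : ∀ x ∈ (P : Subgroup G), ∀ y ∈ (P : Subgroup G), x * y = y * x := by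
    intro x hx y hy
    have := (IsCyclic.commGroup (α := (P : Subgroup G))).mul_comm ⟨x, hx⟩ ⟨y, hy⟩
    exact congrArg Subtype.val this
  have hPC : (P : Subgroup G) ≤ centralizer ((P : Subgroup G) : Set G) := fun x hx =>
    mem_centralizer_iff.2 fun y hy => hcomm y hy x hx
  have hB : IsPBlock M (principalBlock M G) := Blocks.PrincipalSection.isPBlock_principalBlock
  have hBD : IsDefectGroup p M (principalBlock M G) (P : Subgroup G) := (S4652.result p M hM _).2 ⟨P, rfl⟩
  set C := centralizer ((P : Subgroup G) : Set G) with hC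
  have hb : IsPBlock M (principalBlock M C) := Blocks.PrincipalSection.isPBlock_principalBlock
  have hdef : InducedBlockDefined M C (principalBlock M C) :=
    S0919.result p M hM (P : Subgroup G) C P.2 hPC le_rfl (centralizer_le_normalizer _) _ hb
  have hind : IsInducedBlock M C (principalBlock M C) (principalBlock M G) := (S0936.result p M hM C _ hdef).2 rfl
  have hT : ∀ g : G, g ∈ normalizer ((P : Subgroup G) : Set G) ↔ (g ∈ normalizer ((P : Subgroup G) : Set G) ∧
      ∀ θ ∈ principalBlock M C, ∀ θ' : IrrCharacter C,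
        (∀ h h' : C, (h' : G) = g * h * g⁻¹ → (θ' : C → ℂ) h' = (θ : C → ℂ) h) → θ' ∈ principalBlock M C) := by
    intro g
    refine ⟨fun hg => ⟨hg, fun θ hθ θ' h => ?_⟩, fun h => h.1⟩
    have hgC : ∀ x : G, x ∈ C ↔ g * x * g⁻¹ ∈ C := by
      intro x
      rw [mem_centralizer_iff, mem_centralizer_iff]
      constructor
      · intro hx y hy
        have h1 : g⁻¹ * y * g ∈ (P : Subgroup G) := by
          rw [← inv_mem_iff] at hg
          simpa using (mem_normalizer_iff.1 hg y).1 hy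
        have h2 := hx _ h1
        calc y * (g * x * g⁻¹) = g * (g⁻¹ * y * g * x) * g⁻¹ := by group
          _ = g * (x * (g⁻¹ * y * g)) * g⁻¹ := by rw [h2]
          _ = g * x * g⁻¹ * y := by group
      · intro hx y hy
        have h1 : g * y * g⁻¹ ∈ (P : Subgroup G) := (mem_normalizer_iff.1 hg y).1 hy
        have h2 := hx _ h1
        have h3 : g * (y * x) * g⁻¹ = g * (x * y) * g⁻¹ := by
          calc g * (y * x) * g⁻¹ = g * y * g⁻¹ * (g * x * g⁻¹) := by group
            _ = g * x * g⁻¹ * (g * y * g⁻¹) := h2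
            _ = _ := by group
        exact mul_left_cancel (mul_right_cancel h3)
    let α : C ≃* C :=
      { toFun := fun x => ⟨g * x * g⁻¹, (hgC x).1 x.2⟩
        invFun := fun x => ⟨g⁻¹ * x * g, by
          rw [hgC]
          have : g * (g⁻¹ * (x : G) * g) * g⁻¹ = x := by group
          rw [this]; exact x.2⟩
        left_inv := fun x => Subtype.ext (by show g⁻¹ * (g * (x : G) * g⁻¹) * g = x; group)
        right_inv := fun x => Subtype.ext (by show g * (g⁻¹ * (x : G) * g) * g⁻¹ = x; group)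
        map_mul' := fun x y => Subtype.ext (by
          show g * ((x : G) * y) * g⁻¹ = g * x * g⁻¹ * (g * y * g⁻¹)
          group) }
    have h1 : Blocks.ExtendedFMT.compIrr α θ' = θ := by
      apply Subtype.ext
      funext x
      exact h x (α x) rfl
    have h2 : θ' = Blocks.ExtendedFMT.compIrr α.symm θ := by
      rw [← h1, Blocks.ExtendedFMT.compIrr_symm_compIrr]
    have h3 := Blocks.ExtendedFMT.sameBlock_compIrr (M := M) α.symm (θ := ⟨fun _ => 1, isIrr_one⟩) (ψ := θ) hθ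
    rw [h2]
    exact h3
  obtain ⟨h0, h11, X, Y, h1, h2, h3, h4, h5, δ, δ₀, h6, h7, h8, -, -⟩ :=
    S4696.result p M hM (P : Subgroup G) hcyc a ha hPa (principalBlock M G) hB hBD
      (principalBlock M C) hind (normalizer ((P : Subgroup G) : Set G)) hT e he
  have h12 := S4695.result p M hM (P : Subgroup G) hcyc a ha hPa (principalBlock M G) hB hBD
      (principalBlock M C) hind (normalizer ((P : Subgroup G) : Set G)) hT e he
  exact ⟨h0, h12, h11, X, Y, h1, h2, h3, h4, h5, δ, δ₀, h6, h7, h8⟩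

/-- `χ` is determined by its values on the `p`-regular elements -/
def Canon (p : ℕ) (M : Ideal AlgInt) (χ : IrrCharacter G) : Prop :=
  χ ∈ principalBlock M G ∧ ∀ ψ ∈ principalBlock M G,
    (∀ g : G, ¬ p ∣ orderOf g → (ψ : G → ℂ) g = (χ : G → ℂ) g) → ψ = χ

omit [Finite G] hp in
theorem pReg_congr {χ ψ : G → ℂ} (h : ∀ g : G, ¬ p ∣ orderOf g → ψ g = χ g) :
    H608.BlockRank.pReg p ψ = H608.BlockRank.pReg p χ := by
  funext g
  by_cases hg : IsPRegular p g
  · rw [H608.BlockRank.pReg_of hg, H608.BlockRank.pReg_of hg]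
    exact h g hg
  · rw [H608.BlockRank.pReg_of_not hg, H608.BlockRank.pReg_of_not hg]

omit hp in
/-- **The members of `X` are determined by their values on the `p`-regular elements.** -/
theorem canon_of_mem {e : ℕ} (he2 : 2 ≤ e) (hrk : blockRank p (principalBlock M G) = e)
    {X Y : Set (IrrCharacter G)} (hXY : principalBlock M G = X ∪ Y) (hX : Nat.card X = e)
    {δ : IrrCharacter G → ℤ} {δ₀ : ℤ} (hδ : ∀ χ ∈ X, δ χ = 1 ∨ δ χ = -1) (hδ₀ : δ₀ = 1 ∨ δ₀ = -1)
    (hrel : ∀ ψ ∈ Y, ∀ g : G, ¬ p ∣ orderOf g →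
      (δ₀ : ℂ) * (ψ : G → ℂ) g + ∑ᶠ χ ∈ X, (δ χ : ℂ) * (χ : G → ℂ) g = 0) {χ : IrrCharacter G} (hχ : χ ∈ X) :
    Canon p M χ := by
  classical
  have hfin : Finite (IrrCharacter G) := finite_irr
  have hX0 : X.Finite := Set.toFinite _
  have : Fintype X := Fintype.ofFinite _
  let b : X → (G → ℂ) := fun χ => H608.BlockRank.pReg p ((χ : IrrCharacter G) : G → ℂ)
  -- the relation
  have hrel' : ∀ ψ ∈ Y, H608.BlockRank.pReg p (ψ : G → ℂ) = ∑ χ : X, (-(δ₀ * δ (χ : IrrCharacter G) : ℤ) : ℂ) • b χ := by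
    intro ψ hψ
    funext g
    rw [Finset.sum_apply]
    by_cases hg : IsPRegular p g
    · have h1 := hrel ψ hψ g hg
      rw [finsum_mem_eq_finite_toFinset_sum _ hX0] at h1
      have h2 : ∑ χ ∈ hX0.toFinset, (δ χ : ℂ) * (χ : G → ℂ) g =
          ∑ χ : X, (δ (χ : IrrCharacter G) : ℂ) * ((χ : IrrCharacter G) : G → ℂ) g := by
        rw [← Finset.sum_subtype (s := hX0.toFinset) (p := fun x => x ∈ X) (fun x => Set.Finite.mem_toFinset hX0)
          (fun χ => (δ χ : ℂ) * (χ : G → ℂ) g)]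
      rw [h2] at h1
      have h3 : ∀ χ : X, ((-(δ₀ * δ (χ : IrrCharacter G) : ℤ) : ℂ) • b χ) g =
          -(δ₀ : ℂ) * ((δ (χ : IrrCharacter G) : ℂ) * ((χ : IrrCharacter G) : G → ℂ) g) := by
        intro χ
        rw [Pi.smul_apply, smul_eq_mul]
        change _ * H608.BlockRank.pReg p _ g = _
        rw [H608.BlockRank.pReg_of hg]
        push_cast
        ring
      rw [Finset.sum_congr rfl fun χ _ => h3 χ, ← Finset.mul_sum, H608.BlockRank.pReg_of hg]
      have h4 : (δ₀ : ℂ) * (δ₀ : ℂ) = 1 := by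
        rcases hδ₀ with h | h <;> rw [h] <;> simp
      linear_combination (δ₀ : ℂ) * h1 - (ψ : G → ℂ) g * h4
    · rw [H608.BlockRank.pReg_of_not hg]
      symm
      refine Finset.sum_eq_zero fun χ _ => ?_
      rw [Pi.smul_apply]
      change _ • H608.BlockRank.pReg p _ g = 0
      rw [H608.BlockRank.pReg_of_not hg, smul_zero]
  -- linear independence
  have hspan : (H608.BlockRank.charSpan (principalBlock M G)).map (H608.BlockRank.pReg p) =
      Submodule.span ℂ (Set.range b) := by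
    apply le_antisymm
    · unfold H608.BlockRank.charSpan
      rw [Submodule.map_span, Submodule.span_le]
      rintro _ ⟨_, ⟨ψ, hψ, rfl⟩, rfl⟩
      rw [hXY] at hψ
      rcases hψ with h | h
      · exact Submodule.subset_span ⟨⟨ψ, h⟩, rfl⟩
      · change H608.BlockRank.pReg p (ψ : G → ℂ) ∈ _
        rw [hrel' ψ h]
        exact Submodule.sum_mem _ fun χ _ => Submodule.smul_mem _ _ (Submodule.subset_span ⟨χ, rfl⟩)
    · rw [Submodule.span_le]
      rintro _ ⟨χ, rfl⟩
      refine Submodule.mem_map_of_mem (Submodule.subset_span ⟨χ, ?_, rfl⟩)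
      rw [hXY]
      exact Or.inl χ.2
  have hli : LinearIndependent ℂ b := by
    rw [linearIndependent_iff_card_eq_finrank_span]
    rw [← Nat.card_eq_fintype_card, hX, ← hrk, H608.BlockRank.blockRank_eq, hspan]
    rfl
  refine ⟨by rw [hXY]; exact Or.inl hχ, fun ψ hψ hψχ => ?_⟩
  have h1 := pReg_congr hψχ
  rw [hXY] at hψ
  rcases hψ with h | h
  · have h2 : b ⟨ψ, h⟩ = b ⟨χ, hχ⟩ := h1
    exact congrArg Subtype.val (hli.injective h2)
  · exfalso
    rw [hrel' ψ h] at h1
    have h2 : b ⟨χ, hχ⟩ = ∑ χ' : X, (if χ' = ⟨χ, hχ⟩ then (1 : ℂ) else 0) • b χ' := by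
      simp
    have h3 : ∑ χ' : X, ((-(δ₀ * δ (χ' : IrrCharacter G) : ℤ) : ℂ) - (if χ' = ⟨χ, hχ⟩ then (1 : ℂ) else 0)) • b χ' = 0 := by
      rw [Finset.sum_congr rfl fun χ' _ => sub_smul _ _ _, Finset.sum_sub_distrib, ← h2, h1]
      exact sub_self _
    have h4 := Fintype.linearIndependent_iff.1 hli _ h3
    have hXn : 1 < X.ncard := by rw [← Nat.card_coe_set_eq, hX]; omega
    obtain ⟨χ', hχ', hne⟩ := Set.exists_ne_of_one_lt_ncard hXn χ
    have h5 := h4 ⟨χ', hχ'⟩
    rw [if_neg (fun h => hne (congrArg Subtype.val h)), sub_zero] at h5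
    rcases hδ₀ with h | h <;> rcases hδ χ' hχ' with h' | h' <;> simp [h, h'] at h5

/-- Galois automorphisms fixing the roots of unity of order prime to `p` -/
theorem Canon.pow (hM : IsPModular p M) {χ : IrrCharacter G} (h : Canon p M χ) {κ : ℕ}
    (hκ : Nat.Coprime κ (Nat.card G)) (hκ1 : κ ≡ 1 [MOD Nat.card G / p ^ (Nat.card G).factorization p]) (g : G) :
    (χ : G → ℂ) (g ^ κ) = (χ : G → ℂ) g := by
  have hMp := Blocks.Local.isPrime_of_isPModular hM
  have := Fintype.ofFinite G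
  have hirr : IsIrrCharacter G (fun g => (χ : G → ℂ) (g ^ κ)) := Characters.GaloisIrr.isIrr_pow hκ χ.2
  have hreg : ∀ g : G, ¬ p ∣ orderOf g → (χ : G → ℂ) (g ^ κ) = (χ : G → ℂ) g := fun g hg => by
    rw [H657.pow_eq_of_isPRegular hκ1 hg]
  have hB := H608.BlockRank.isUnion_of_isPBlock (Blocks.PrincipalSection.isPBlock_principalBlock (M := M) (K := G))
  have hmem : (⟨_, hirr⟩ : IrrCharacter G) ∈ principalBlock M G := by
    refine hB χ _ ?_ h.1
    refine Blocks.PRegular.sameBlock_of_isPRegular hM χ.2 hirr fun g hg => ?_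
    have h1 : centralChar (χ : G → ℂ) g - centralChar (fun g => (χ : G → ℂ) (g ^ κ)) g = 0 := by
      rw [Blocks.Basic.centralChar_def, Blocks.Basic.centralChar_def, H657.pow_eq_of_isPRegular hκ1 hg, one_pow, sub_self]
    rw [h1]
    exact Blocks.Local.memLocalIdeal_zero
  have h1 := h.2 ⟨_, hirr⟩ hmem hreg
  have h2 := congrArg (fun ψ : IrrCharacter G => (ψ : G → ℂ) g) h1
  exact h2

theorem Canon.pRat (hM : IsPModular p M) {χ : IrrCharacter G} (h : Canon p M χ) : PRat p (χ : G → ℂ) := by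
  have hn0 : Nat.card G ≠ 0 := Nat.card_pos.ne'
  refine ⟨Nat.card G / p ^ (Nat.card G).factorization p, Nat.not_dvd_ordCompl hp.out hn0, fun g => ?_⟩
  exact H775.S4790.mem_adjoin_of_fixed (Nat.div_dvd_of_dvd (Nat.ordProj_dvd _ _)) χ.2
    (fun k hk hk1 g => h.pow hM hk hk1 g) g

omit [Finite G] hp in
theorem Canon.comp {χ : IrrCharacter G} (h : Canon p M χ) (e : G ≃* G) :
    Canon p M (Blocks.ExtendedFMT.compIrr e χ) := by
  have key : ∀ (e : G ≃* G) (ψ : IrrCharacter G), ψ ∈ principalBlock M G →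
      Blocks.ExtendedFMT.compIrr e ψ ∈ principalBlock M G := fun e ψ hψ =>
    Blocks.ExtendedFMT.sameBlock_compIrr (M := M) e (θ := ⟨fun _ => 1, isIrr_one⟩) (ψ := ψ) hψ
  refine ⟨key e χ h.1, fun ψ hψ hψe => ?_⟩
  have h1 := h.2 (Blocks.ExtendedFMT.compIrr e.symm ψ) (key e.symm ψ hψ) fun g hg => by
    rw [Blocks.ExtendedFMT.compIrr_apply, hψe _ (by rwa [MulEquiv.orderOf_eq]), Blocks.ExtendedFMT.compIrr_apply,
      e.apply_symm_apply]
  rw [← h1, Blocks.ExtendedFMT.compIrr_compIrr_symm]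

/-- a group with a cyclic Sylow `p`-subgroup and `e ≥ 2` has `1` to `p - 1` nontrivial `Canon` characters -/
theorem card_canon (hM : IsPModular p M) (P : Sylow p G) (hcyc : IsCyclic (P : Subgroup G)) (hP1 : Nat.card (P : Subgroup G) ≠ 1)
    (he : 2 ≤ (centralizer ((P : Subgroup G) : Set G)).relIndex (normalizer ((P : Subgroup G) : Set G))) :
    (∃ χ : IrrCharacter G, Canon p M χ ∧ (χ : G → ℂ) ≠ fun _ => 1) ∧
    Nat.card {χ : IrrCharacter G // Canon p M χ ∧ (χ : G → ℂ) ≠ fun _ => 1} < p := by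
  classical
  have hMp := Blocks.Local.isPrime_of_isPModular hM
  have hfin : Finite (IrrCharacter G) := finite_irr
  obtain ⟨a, ha⟩ := (IsPGroup.iff_card.1 P.2)
  have ha1 : 1 ≤ a := by
    rcases Nat.eq_zero_or_pos a with h | h
    · exact absurd (by rw [ha, h, pow_zero]) hP1
    · exact h
  obtain ⟨h0, hrk, -, X, Y, hXY, hdis, hX, hY, hYreg, δ, δ₀, hδ, hδ₀, hrel⟩ := block hM P hcyc ha1 ha rfl
  set e := (centralizer ((P : Subgroup G) : Set G)).relIndex (normalizer ((P : Subgroup G) : Set G)) with hedef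
  have hcan : ∀ χ ∈ X, Canon p M χ := fun χ hχ => canon_of_mem (p := p) he hrk hXY hX hδ hδ₀ hrel hχ
  have hp2 : 2 ≤ p := hp.out.two_le
  have hep : e ≤ p - 1 := Nat.le_of_dvd (by omega) h0
  have hX0 : X.Finite := Set.toFinite _
  have hY0 : Y.Finite := Set.toFinite _
  refine ⟨?_, ?_⟩
  · have hXn : 1 < X.ncard := by rw [← Nat.card_coe_set_eq, hX]; omega
    obtain ⟨χ, hχ, hne⟩ := Set.exists_ne_of_one_lt_ncard hXn ⟨fun _ => 1, isIrr_one⟩
    exact ⟨χ, hcan χ hχ, fun h => hne (Subtype.ext h)⟩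
  · rcases Nat.lt_or_ge 1 (Nat.card Y) with h1 | h1
    · have hYn : 1 < Y.ncard := by rwa [← Nat.card_coe_set_eq]
      have h2 : {χ : IrrCharacter G | Canon p M χ ∧ (χ : G → ℂ) ≠ fun _ => 1} ⊆ X := by
        rintro χ ⟨hχ, -⟩
        have h3 := hχ.1
        rw [hXY] at h3
        rcases h3 with h3 | h3
        · exact h3
        · obtain ⟨ψ, hψ, hne⟩ := Set.exists_ne_of_one_lt_ncard hYn χ
          exact absurd (hχ.2 ψ (by rw [hXY]; exact Or.inr hψ) (hYreg ψ hψ χ h3)) hne
      have h3 := Set.ncard_le_ncard h2 hX0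
      rw [← Nat.card_coe_set_eq, ← Nat.card_coe_set_eq, hX] at h3
      exact lt_of_le_of_lt h3 (by omega)
    · have h2 : insert (⟨fun _ => 1, isIrr_one⟩ : IrrCharacter G)
          {χ : IrrCharacter G | Canon p M χ ∧ (χ : G → ℂ) ≠ fun _ => 1} ⊆ X ∪ Y := by
        rw [← hXY]
        rintro χ (rfl | ⟨hχ, -⟩)
        · exact Blocks.PrincipalSection.one_mem_principalBlock
        · exact hχ.1
      have h3 := Set.ncard_le_ncard h2 (hX0.union hY0)
      rw [Set.ncard_insert_of_notMem (fun h => h.2 rfl) (Set.toFinite _)] at h3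
      have h4 := Set.ncard_union_le X Y
      rw [← Nat.card_coe_set_eq X, ← Nat.card_coe_set_eq Y, hX] at h4
      change Nat.card ↥{χ : IrrCharacter G | Canon p M χ ∧ (χ : G → ℂ) ≠ fun _ => 1} < p
      rw [Nat.card_coe_set_eq]
      omega

/-- **`p`-elements of `Aut G` fix the `Canon` characters.** -/
theorem fixed (hcard : Nat.card {χ : IrrCharacter G // Canon p M χ ∧ (χ : G → ℂ) ≠ fun _ => 1} < p)
    {χ : IrrCharacter G} (h : Canon p M χ) (hχ : (χ : G → ℂ) ≠ fun _ => 1) (α : MulAut G) {k : ℕ} (hα : α ^ p ^ k = 1)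
    (x : G) : (χ : G → ℂ) (α x) = (χ : G → ℂ) x := by
  classical
  have hfin : Finite (IrrCharacter G) := finite_irr
  set Z := {χ : IrrCharacter G // Canon p M χ ∧ (χ : G → ℂ) ≠ fun _ => 1} with hZ
  have : Fintype Z := Fintype.ofFinite _
  have hne : ∀ (e : G ≃* G) (ψ : IrrCharacter G), ((ψ : G → ℂ) ≠ fun _ => 1) →
      ((Blocks.ExtendedFMT.compIrr e ψ : G → ℂ) ≠ fun _ => 1) := by
    intro e ψ hψ h1
    apply hψ
    funext g
    have h2 := congrFun h1 (e.symm g)
    rwa [Blocks.ExtendedFMT.compIrr_apply, e.apply_symm_apply] at h2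
  let f : Equiv.Perm Z :=
    { toFun := fun ψ => ⟨Blocks.ExtendedFMT.compIrr α ψ.1, ψ.2.1.comp α, hne α _ ψ.2.2⟩
      invFun := fun ψ => ⟨Blocks.ExtendedFMT.compIrr α.symm ψ.1, ψ.2.1.comp α.symm, hne α.symm _ ψ.2.2⟩
      left_inv := fun ψ => Subtype.ext (Blocks.ExtendedFMT.compIrr_symm_compIrr _ _)
      right_inv := fun ψ => Subtype.ext (Blocks.ExtendedFMT.compIrr_compIrr_symm _ _) }
  have hf : ∀ (n : ℕ) (ψ : Z) (x : G), (((f ^ n) ψ).1 : G → ℂ) x = (ψ.1 : G → ℂ) ((α ^ n) x) := by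
    intro n
    induction n with
    | zero => intro ψ x; rfl
    | succ n ih =>
      intro ψ x
      rw [pow_succ, Equiv.Perm.mul_apply, ih, pow_succ']
      rfl
  have hf1 : f ^ p ^ k = 1 := by
    ext1 ψ
    apply Subtype.ext
    apply Subtype.ext
    funext x
    rw [hf, hα]
    rfl
  have h1 : orderOf f ∣ p ^ k := orderOf_dvd_of_pow_eq_one hf1
  have h2 : orderOf f ∣ (Fintype.card Z).factorial := by
    have := orderOf_dvd_card (x := f)
    rwa [Fintype.card_perm] at this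
  have h3 : ¬ p ∣ (Fintype.card Z).factorial := by
    rw [hp.out.dvd_factorial, ← Nat.card_eq_fintype_card]
    omega
  have h4 : orderOf f = 1 := by
    obtain ⟨i, -, hi⟩ := (Nat.dvd_prime_pow hp.out).1 h1
    rcases Nat.eq_zero_or_pos i with h | h
    · rw [hi, h, pow_zero]
    · exact absurd ((dvd_pow_self p h.ne').trans (hi ▸ h2)) h3
  rw [orderOf_eq_one_iff] at h4
  have h5 := hf 1 ⟨χ, h, hχ⟩ x
  rw [pow_one, pow_one, h4] at h5
  exact h5.symm

/-- heights are zero -/
theorem not_dvd (hM : IsPModular p M) (P : Sylow p G) (hcyc : IsCyclic (P : Subgroup G)) (hP1 : Nat.card (P : Subgroup G) ≠ 1)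
    {χ : IrrCharacter G} (hχ : χ ∈ principalBlock M G) : ¬ p ∣ charDegree (χ : G → ℂ) := by
  have hMp := Blocks.Local.isPrime_of_isPModular hM
  obtain ⟨a, ha⟩ := (IsPGroup.iff_card.1 P.2)
  have ha1 : 1 ≤ a := by
    rcases Nat.eq_zero_or_pos a with h | h
    · exact absurd (by rw [ha, h, pow_zero]) hP1
    · exact h
  obtain ⟨-, -, hht, -⟩ := block hM P hcyc ha1 ha rfl
  have h1 := hht χ hχ
  have h0 : (0 : ℕ) ∈ ((fun ψ : IrrCharacter G => (charDegree (ψ : G → ℂ)).factorization p) '' (principalBlock M G)) := by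
    refine ⟨⟨fun _ => 1, isIrr_one⟩, Blocks.PrincipalSection.one_mem_principalBlock, ?_⟩
    show (charDegree (fun _ : G => (1 : ℂ))).factorization p = 0
    rw [Blocks.Basic.charDegree_of_eq (n := 1) (by simp)]
    simp
  unfold blockHeight at h1
  rw [Nat.sInf_eq_zero.2 (Or.inl h0), Nat.sub_zero] at h1
  intro h2
  have h3 := (hp.out.dvd_iff_one_le_factorization (Blocks.Basic.charDegree_pos χ.2).ne').1 h2
  omega

/-- Burnside -/
theorem two_le_relIndex [IsSimpleGroup G] (hna : ¬ IsMulCommutative G) (P : Sylow p G) (hcyc : IsCyclic (P : Subgroup G))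
    (hP1 : Nat.card (P : Subgroup G) ≠ 1) :
    2 ≤ (centralizer ((P : Subgroup G) : Set G)).relIndex (normalizer ((P : Subgroup G) : Set G)) := by
  by_contra hlt
  have h0 : (centralizer ((P : Subgroup G) : Set G)).relIndex (normalizer ((P : Subgroup G) : Set G)) ≠ 0 :=
    Subgroup.index_ne_zero_of_finite
  have h1 : (centralizer ((P : Subgroup G) : Set G)).relIndex (normalizer ((P : Subgroup G) : Set G)) = 1 := by omega
  rw [relIndex_eq_one] at h1
  have h2 := MonoidHom.ker_transferSylow_isComplement' P h1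
  rcases IsSimpleGroup.eq_bot_or_eq_top_of_normal (MonoidHom.transferSylow P h1).ker inferInstance with h3 | h3
  · rw [h3] at h2
    have h4 : (P : Subgroup G) = ⊤ := by
      have := h2.symm
      rwa [isComplement'_bot_right] at this
    apply hna
    rw [h4] at hcyc
    have h5 : IsCyclic G := isCyclic_of_surjective (Subgroup.topEquiv : (⊤ : Subgroup G) ≃* G) (Subgroup.topEquiv : (⊤ : Subgroup G) ≃* G).surjective
    exact ⟨⟨fun a b => (IsCyclic.commGroup (α := G)).mul_comm a b⟩⟩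
  · rw [h3] at h2
    have h4 : (P : Subgroup G) = ⊥ := by
      rwa [isComplement'_top_left] at h2
    exact hP1 (by rw [h4]; exact Nat.card_unique)

/-- **The row of the simple groups with cyclic Sylow `p`-subgroups.** -/
theorem rowT_cyc (p : ℕ) [Fact p.Prime] (X : Type u) [Group X] [Finite X] [IsSimpleGroup X] (hna : ¬ IsMulCommutative X)
    (hd : p ∣ Nat.card X) (hc : ∃ P : Sylow p X, IsCyclic (P : Subgroup X)) : RowT p X := by
  intro A hA M hM
  obtain ⟨P, hP⟩ := hc
  have hP1 : Nat.card (P : Subgroup X) ≠ 1 := by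
    intro h
    have h1 := P.dvd_card_of_dvd_card hd
    rw [h] at h1
    exact (Fact.out : p.Prime).one_lt.ne' (Nat.dvd_one.1 h1)
  have he := two_le_relIndex hna P hP hP1
  obtain ⟨⟨χ, hχ, hχ1⟩, hlt⟩ := card_canon hM P hP hP1 he
  refine ⟨χ, ⟨hχ.1, hχ1, ?_, hχ.pRat hM⟩, fun a ha x => ?_⟩
  · exact not_dvd hM P hP hP1 hχ.1
  · obtain ⟨k, hk⟩ := hA ⟨a, ha⟩
    exact fixed hlt hχ hχ1 a (congrArg Subtype.val hk) x

end Cfsg.Agent.H734.RB
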